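import Cfsg.Agent.Spor.Chk

set_option autoImplicit false
set_option maxRecDepth 100000000
set_option Elab.async false
noncomputable section

namespace Cfsg.Agent.Spor.Fi10

def m0_0 : Nat := nat_lit 0x1
def m0_1 : Nat := nat_lit 0x11
def m0_2 : Nat := nat_lit 0x14
def m0_3 : Nat := nat_lit 0x11
def m0_4 : Nat := nat_lit 0x1
def n0 : Net := Net.cons 4 m0_0 (Net.cons 2 m0_1 (Net.cons 1 m0_2 (Net.cons 2 m0_3 (Net.cons 4 m0_4 (Net.nil)))))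

def m1_0 : Nat := nat_lit 0x44
def n1 : Net := Net.cons 1 m1_0 (Net.nil)

def m2_0 : Nat := nat_lit 0x1
def m2_1 : Nat := nat_lit 0x1
def m2_2 : Nat := nat_lit 0x11
def m2_3 : Nat := nat_lit 0x41
def m2_4 : Nat := nat_lit 0x11
def m2_5 : Nat := nat_lit 0x1
def m2_6 : Nat := nat_lit 0x1
def n2 : Net := Net.cons 8 m2_0 (Net.cons 4 m2_1 (Net.cons 2 m2_2 (Net.cons 1 m2_3 (Net.cons 2 m2_4 (Net.cons 4 m2_5 (Net.cons 8 m2_6 (Net.nil)))))))

def m3_0 : Nat := nat_lit 0x101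
def n3 : Net := Net.cons 1 m3_0 (Net.nil)

def m4_0 : Nat := nat_lit 0x2
def m4_1 : Nat := nat_lit 0x12
def m4_2 : Nat := nat_lit 0x2
def n4 : Net := Net.cons 4 m4_0 (Net.cons 2 m4_1 (Net.cons 4 m4_2 (Net.nil)))

def ip1 : List Nat := [0x292, 0x306, 0xe0]
def l1 : Let := ⟨0, false, 0x3ff, 0x10, [0x294, 0x366, 0x380]⟩

def ip2 : List Nat := [0xb8, 0x212, 0x120]
def l2 : Let := ⟨1, false, 0x3ff, 0x88, [0x288, 0x302, 0x330]⟩

def ip3 : List Nat := [0x364, 0x70, 0x208]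
def l3 : Let := ⟨2, false, 0x3ff, 0x104, [0x34c, 0x208, 0x270]⟩

def ip4 : List Nat := [0x28e, 0x98, 0x64]
def l4 : Let := ⟨3, false, 0x3ff, 0x202, [0x24a, 0x8c, 0xf0]⟩

def ip5 : List Nat := [0x262, 0x306, 0x80]
def l5 : Let := ⟨4, false, 0x3ff, 0x60, [0x2e4, 0x306, 0x380]⟩

def NT : List Net := [n0, n1, n2, n3, n4]
def LT : List Let := [⟨0, false, 0, 0, []⟩, l1, l2, l3, l4, l5]
def T : Tab := ⟨NT, LT⟩
def EX : List (List Nat) := [[], [0], [2], [4], [6], [8]]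
def RL : List (List Nat) := [[0, 2, 0, 2, 0, 2], [0, 4, 0, 4], [0, 6, 0, 6], [0, 8, 0, 8], [2, 4, 2, 4, 2, 4], [2, 6, 2, 6], [2, 8, 2, 8, 2, 8], [4, 6, 4, 6, 4, 6], [4, 8, 4, 8], [6, 8, 6, 8]]
def XL : List (List Nat) := []
def BW : List (List Nat) := [[0], [2], [4], [8]]
def IV : Nat := 0x50403020100
def L : List Nat := [1, 2, 3, 4, 5]
def gs : List Nat := [1, 2, 3, 4, 5]
def base : List Nat := [1, 2, 3, 5]

end Cfsg.Agent.Spor.Fi10
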